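import Groth.Agent.Fga.JacSum
import Groth.Agent.Divis.EffCartier

/-!
# The class of `O(-D)` in the Picard group
-/

set_option autoImplicit false
universe u
open CategoryTheory CategoryTheory.Limits AlgebraicGeometry Opposite TopologicalSpace

namespace Groth.Agent.Sga7.H591.Dcl

open Groth.Agent.Grpsch.PicGrp Groth.Agent.Fga.JacSum Groth.Agent.Divis.EffCartier

variable {Y Z : Scheme.{u}}

/-- The class of `O(-D)`. -/
noncomputable def dcl (D : Y.IdealSheafData) (hD : BlowUp.IsEffCartierIdeal D) : Pic Y :=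
  mk (ClSub.idealMod D) (Dix.IdealModCartier.isInvertible_idealMod hD)

theorem dcl_mul {D E : Y.IdealSheafData} (hD : BlowUp.IsEffCartierIdeal D) (hE : BlowUp.IsEffCartierIdeal E) :
    dcl (D * E) (isEff_mul hD hE) = dcl D hD * dcl E hE := by
  rw [dcl, dcl, dcl, mk_mul_mk, eq_comm, mk_eq_iff]
  exact Dix.IdealModCartier.idealMod_mul hD hE

theorem dcl_top : dcl (⊤ : Y.IdealSheafData) isEff_top = 1 := by
  rw [dcl, mk_eq_one_iff]
  have h : Dix.IdealModCartier.GenOn (⊤ : Y.IdealSheafData) (1 : Γ(Y, ⊤)) := by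
    intro W hW
    rw [map_one]
    exact ⟨one_mem _, by rw [Ideal.span_singleton_one]; rfl⟩
  exact (Dix.IdealModCartier.idealMod_principal h).map (·.symm)

/-- The class of an effective Cartier divisor commutes with pullback. -/
theorem pull_dcl (g : Z ⟶ Y) (D : Y.IdealSheafData) (hD : BlowUp.IsEffCartierIdeal D)
    (E : Z.IdealSheafData) (hE : BlowUp.IsEffCartierIdeal E) (h : D.comap g = E) :
    pull g (dcl D hD) = dcl E hE := by
  subst h
  rw [dcl, dcl, pull_mk, mk_eq_iff]
  exact Dix.IdealModCartier.pullback_idealMod g hD hE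

theorem comap_eq_top (g : Z ⟶ Y) (D : Y.IdealSheafData)
    (h : ∀ z, g z ∉ D.support) : D.comap g = ⊤ := by
  rw [← Scheme.IdealSheafData.support_eq_bot_iff, Scheme.IdealSheafData.support_comap, eq_bot_iff]
  intro z hz
  exact (h z hz).elim

/-- `gcl` is a divisor class. -/
theorem dcl_secGraph {X S : Scheme.{u}} (f : X ⟶ S) [SmoothOfRelativeDimension 1 f] [IsSeparated f]
    {T : Over S} (x : Pt f T) (h : BlowUp.IsEffCartierIdeal (HilbD.secGraph f T x.1 x.2)) :
    dcl (HilbD.secGraph f T x.1 x.2) h = gcl f x := rfl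

end Groth.Agent.Sga7.H591.Dcl
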