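import Groth.Agent.Sga7.H591.SecSm
import Groth.Agent.Sga7.H732.Hedge

/-!
# LIFT: passage to the generic fibre
-/

set_option autoImplicit false
universe u
open CategoryTheory CategoryTheory.Limits AlgebraicGeometry Opposite TopologicalSpace

namespace Groth.Agent.Sga7.H591.LiftB

open Groth.Agent.Grpsch.PicGrp Groth.Agent.Fga.JacSum Groth.Agent.Sga7.H591.Dcl
open Groth.Agent.Picfga Groth.Agent.Picfga.SecGraph Groth.Agent.Sga7.H591.SecSm
open Groth.Agent.Sga7.H732.Hedge IsLocalRing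

section Base

variable {X C S S' : Scheme.{u}} (p : X ⟶ S) (f : C ⟶ S') (c : C ⟶ X) (b : S' ⟶ S) (h : IsPullback c f p b)
  (T : Over S) (T' : Over S') (t : T'.left ⟶ T.left) (ht : t ≫ T.hom = T'.hom ≫ b)
  (cm : PicF.XT f T' ⟶ PicF.XT p T) (h1 : cm ≫ pullback.fst p T.hom = pullback.fst f T'.hom ≫ c)
  (h2 : cm ≫ pullback.snd p T.hom = pullback.snd f T'.hom ≫ t)

include h ht h1 h2 in
theorem isPullback_cm : IsPullback cm (pullback.snd f T'.hom) (pullback.snd p T.hom) t := by
  refine IsPullback.of_right (h₁₂ := pullback.fst p T.hom) (v₁₃ := p) (h₂₂ := T.hom) ?_ h2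
    (IsPullback.of_hasPullback p T.hom)
  rw [h1, ht]
  exact (IsPullback.of_hasPullback f T'.hom).paste_horiz h

variable [IsSeparated p]

include h ht h1 h2 in
/-- The graph of a section restricts to the graph of the restriction. -/
theorem comap_secGraph (y : Pt p T) (z : Pt f T') (hz : z.1 ≫ c = t ≫ y.1) :
    (HilbD.secGraph p T y.1 y.2).comap cm = HilbD.secGraph f T' z.1 z.2 := by
  have hcm := isPullback_cm p f c b h T T' t ht cm h1 h2
  have hsq : sec f T' z.1 z.2 ≫ cm = t ≫ sec p T y.1 y.2 := by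
    apply pullback.hom_ext
    · rw [Category.assoc, h1, sec_fst_assoc, hz, Category.assoc, sec_fst]
    · rw [Category.assoc, h2, Category.assoc, pullback.lift_snd_assoc, pullback.lift_snd, Category.id_comp,
        Category.comp_id]
  have h3 : IsPullback t (sec f T' z.1 z.2) (sec p T y.1 y.2) cm := by
    refine IsPullback.of_bot (v₂₁ := pullback.snd f T'.hom) (v₂₂ := pullback.snd p T.hom) (h₃₁ := t) ?_
      hsq.symm hcm
    rw [pullback.lift_snd, pullback.lift_snd]
    exact IsPullback.of_vert_isIso ⟨by simp⟩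
  exact (ker_eq_comap_of_isPullback h3).symm

include h ht h1 h2 in
/-- The class of a difference of sections restricts to the generic fibre. -/
theorem pull_cm_eq [SmoothOfRelativeDimension 1 f] [IsSeparated f] {n : ℕ} (y y' : Fin n → Pt p T)
    (hy : ∀ i, BlowUp.IsEffCartierIdeal (HilbD.secGraph p T (y i).1 (y i).2))
    (hy' : ∀ i, BlowUp.IsEffCartierIdeal (HilbD.secGraph p T (y' i).1 (y' i).2))
    (L : Pic (PicF.XT p T)) (hL : L * ∏ i, dcl _ (hy' i) = ∏ i, dcl _ (hy i))
    (z z' : Fin n → Pt f T') (hz : ∀ i, (z i).1 ≫ c = t ≫ (y i).1) (hz' : ∀ i, (z' i).1 ≫ c = t ≫ (y' i).1) :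
    pull cm L = ∏ i, ((gcl f (z' i))⁻¹ * gcl f (z i)) := by
  have k1 : ∀ i, pull cm (dcl _ (hy i)) = gcl f (z i) := fun i => by
    rw [pull_dcl cm _ (hy i) _ (isEff_secGraph f (z i))
      (comap_secGraph p f c b h T T' t ht cm h1 h2 (y i) (z i) (hz i)), dcl_secGraph]
  have k2 : ∀ i, pull cm (dcl _ (hy' i)) = gcl f (z' i) := fun i => by
    rw [pull_dcl cm _ (hy' i) _ (isEff_secGraph f (z' i))
      (comap_secGraph p f c b h T T' t ht cm h1 h2 (y' i) (z' i) (hz' i)), dcl_secGraph]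
  have h3 := congrArg (pull cm) hL
  rw [map_mul, map_prod, map_prod, Finset.prod_congr rfl fun i _ => k1 i,
    Finset.prod_congr rfl fun i _ => k2 i] at h3
  rw [Finset.prod_mul_distrib, Finset.prod_inv_distrib, ← h3, mul_comm, mul_inv_cancel_right]

end Base

/-- Lifting of sections (the statement proved by helper543), in terms of classes. -/
def SecLift : Prop :=
  ∀ (R : Type u) [CommRing R] [IsDomain R] [IsDiscreteValuationRing R] [HenselianLocalRing R]
    (X Z : Scheme.{u}) (p : X ⟶ Spec (CommRingCat.of R)) [IsProper p] [Flat p] (j : Z ⟶ X)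
    (q : Z ⟶ Spec (CommRingCat.of (ResidueField R)))
    (_ : IsPullback j q p (Spec.map (CommRingCat.ofHom (residue R)))) (n : ℕ)
    (y : Fin n → (Spec (CommRingCat.of R) ⟶ X)) (_ : ∀ i, y i ≫ p = 𝟙 _)
    (hc : ∀ i, BlowUp.IsEffCartierIdeal (y i).ker)
    (_ : Function.Injective fun i => y i (closedPoint R)) (L : Pic X) (_ : pull j L = 1)
    (_ : ∀ (hE : ∀ i, BlowUp.IsEffCartierIdeal ((y i).ker.comap j)) (N : Z.Modules) (hN : PicF.IsInvertible N),
      mk N hN = ∏ i, (dcl ((y i).ker.comap j) (hE i))⁻¹ → Subsingleton (Coh.HH Z N 1)),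
    ∃ (y' : Fin n → (Spec (CommRingCat.of R) ⟶ X)) (hc' : ∀ i, BlowUp.IsEffCartierIdeal (y' i).ker),
      (∀ i, y' i ≫ p = 𝟙 _) ∧
      (∀ i, Spec.map (CommRingCat.ofHom (residue R)) ≫ y' i = Spec.map (CommRingCat.ofHom (residue R)) ≫ y i) ∧
      L * ∏ i, dcl (y' i).ker (hc' i) = ∏ i, dcl (y i).ker (hc i)

end Groth.Agent.Sga7.H591.LiftB
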