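import Mathlib.RingTheory.PicardGroup
import Mathlib.RingTheory.Flat.FaithfullyFlat.Algebra
import Mathlib.Algebra.Polynomial.FieldDivision
import Mathlib.RingTheory.Nilpotent.Lemmas

/-!
# Cyclic modules over a subring with a common ideal (Milnor square)
-/

set_option autoImplicit false
universe u v w

open TensorProduct

namespace Groth.Agent.Sga7.H591.MilnorPic

variable {R : Type u} {S : Type v} [CommRing R] [CommRing S] [Algebra R S]

/-- `I` is an ideal of `R` whose image in `S` is an ideal of `S`, and elements of `S` invertible modulo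
this ideal lift to units. -/
structure Sq (I : Ideal R) : Prop where
  mul : ∀ i ∈ I, ∀ s : S, ∃ i' ∈ I, algebraMap R S i' = algebraMap R S i * s
  lift : ∀ a b : S, (∃ i ∈ I, algebraMap R S i = a * b - 1) →
    ∃ u : S, IsUnit u ∧ ∃ i ∈ I, algebraMap R S i = a - u

variable {I : Ideal R}

/-- The image of `I` in `S` as an ideal. -/
def Sq.J (h : Sq (S := S) I) : Ideal S where
  carrier := {s | ∃ i ∈ I, algebraMap R S i = s}
  add_mem' := by
    rintro _ _ ⟨i, hi, rfl⟩ ⟨j, hj, rfl⟩
    exact ⟨i + j, I.add_mem hi hj, by simp⟩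
  zero_mem' := ⟨0, I.zero_mem, by simp⟩
  smul_mem' := by
    rintro s _ ⟨i, hi, rfl⟩
    obtain ⟨i', hi', h1⟩ := h.mul i hi s
    exact ⟨i', hi', by rw [h1, smul_eq_mul, mul_comm]⟩

theorem Sq.mem_J (h : Sq (S := S) I) {s : S} : s ∈ h.J ↔ ∃ i ∈ I, algebraMap R S i = s := Iff.rfl

variable {P : Type w} [AddCommGroup P] [Module R P]
variable {N : Type*} [AddCommGroup N] [Module R N] [Module S N] [IsScalarTower R S N]

/-- The main lemma. -/
theorem cyclic_of_sq (h : Sq (S := S) I) (ι : P →ₗ[R] N) (hι : Function.Injective ι)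
    (hspan : Submodule.span S (Set.range ι) = ⊤) (φ : N ≃ₗ[S] S)
    (e : P) (he : ∀ p : P, ∃ r : R, p - r • e ∈ (I • ⊤ : Submodule R P)) :
    ∃ p₀ : P, ∀ p : P, ∃ r : R, p = r • p₀ := by
  -- elements with `φ n ∈ J` come from `I P`
  have key : ∀ n : N, φ n ∈ h.J → ∃ p ∈ (I • ⊤ : Submodule R P), ι p = n := by
    have h1 : ∀ m : N, ∀ s : S, s ∈ h.J → ∃ p ∈ (I • ⊤ : Submodule R P), ι p = s • m := by
      intro m
      have hm : m ∈ Submodule.span S (Set.range ι) := hspan ▸ Submodule.mem_top
      induction hm using Submodule.span_induction with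
      | mem x hx =>
        obtain ⟨p, rfl⟩ := hx
        rintro s ⟨i, hi, rfl⟩
        exact ⟨i • p, Submodule.smul_mem_smul hi Submodule.mem_top, by
          rw [map_smul, algebraMap_smul]⟩
      | zero => exact fun s _ => ⟨0, Submodule.zero_mem _, by simp⟩
      | add x y _ _ hx hy =>
        intro s hs
        obtain ⟨p, hp, hp'⟩ := hx s hs
        obtain ⟨q, hq, hq'⟩ := hy s hs
        exact ⟨p + q, Submodule.add_mem _ hp hq, by rw [map_add, hp', hq', smul_add]⟩
      | smul a x _ hx =>
        intro s hs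
        obtain ⟨p, hp, hp'⟩ := hx (s * a) (h.J.mul_mem_right _ hs)
        exact ⟨p, hp, by rw [hp', mul_smul]⟩
    intro n hn
    obtain ⟨p, hp, hp'⟩ := h1 (φ.symm 1) (φ n) hn
    refine ⟨p, hp, ?_⟩
    rw [hp', ← map_smul, smul_eq_mul, mul_one, LinearEquiv.symm_apply_apply]
  have key2 : ∀ p ∈ (I • ⊤ : Submodule R P), φ (ι p) ∈ h.J := by
    intro p hp
    induction hp using Submodule.smul_induction_on' with
    | smul i hi x _ =>
      rw [map_smul, ← algebraMap_smul S i (ι x), map_smul, smul_eq_mul]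
      exact h.J.mul_mem_right _ ⟨i, hi, rfl⟩
    | add x _ y _ hx hy =>
      rw [map_add, map_add]
      exact h.J.add_mem hx hy
  set a : S := φ (ι e) with ha
  -- `a` is a unit modulo `J`
  have h2 : ∀ m : N, ∃ s : S, φ m - s * a ∈ h.J := by
    intro m
    have hm : m ∈ Submodule.span S (Set.range ι) := hspan ▸ Submodule.mem_top
    induction hm using Submodule.span_induction with
    | mem x hx =>
      obtain ⟨p, rfl⟩ := hx
      obtain ⟨r, hr⟩ := he p
      refine ⟨algebraMap R S r, ?_⟩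
      have h3 := key2 _ hr
      rwa [map_sub, map_sub, map_smul, ← algebraMap_smul S r (ι e), map_smul, smul_eq_mul] at h3
    | zero => exact ⟨0, by simp⟩
    | add x y _ _ hx hy =>
      obtain ⟨s, hs⟩ := hx
      obtain ⟨t, ht⟩ := hy
      refine ⟨s + t, ?_⟩
      have h3 : φ (x + y) - (s + t) * a = (φ x - s * a) + (φ y - t * a) := by rw [map_add]; ring
      rw [h3]
      exact h.J.add_mem hs ht
    | smul b x _ hx =>
      obtain ⟨s, hs⟩ := hx
      refine ⟨b * s, ?_⟩
      have h3 : φ (b • x) - b * s * a = b * (φ x - s * a) := by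
        rw [map_smul, smul_eq_mul]; ring
      rw [h3]
      exact h.J.mul_mem_left _ hs
  obtain ⟨b, hb⟩ := h2 (φ.symm 1)
  rw [LinearEquiv.apply_symm_apply] at hb
  obtain ⟨u, hu, hau⟩ := h.lift a b (by
    have h3 : a * b - 1 ∈ h.J := by
      have h4 : a * b - 1 = -(1 - b * a) := by ring
      rw [h4]
      exact h.J.neg_mem hb
    exact h3)
  -- correct `e`
  obtain ⟨j, hj, hj'⟩ := key (ι e - φ.symm u) (by
    rw [map_sub, LinearEquiv.apply_symm_apply, ← ha]
    exact hau)
  obtain ⟨u, rfl⟩ := hu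
  refine ⟨e - j, fun p => ?_⟩
  have hp0 : φ (ι (e - j)) = u := by
    rw [map_sub, hj', sub_sub_cancel, LinearEquiv.apply_symm_apply]
  obtain ⟨r, hr⟩ := he p
  have h5 : p - r • (e - j) ∈ (I • ⊤ : Submodule R P) := by
    have : p - r • (e - j) = (p - r • e) + r • j := by rw [smul_sub]; abel
    rw [this]
    exact Submodule.add_mem _ hr (Submodule.smul_mem _ _ hj)
  have h6 := key2 _ h5
  obtain ⟨i', hi', h7⟩ := h.J.mul_mem_right (↑u⁻¹ : S) h6
  refine ⟨r + i', hι (φ.injective ?_)⟩
  rw [map_smul, ← algebraMap_smul S (r + i') (ι (e - j)), map_smul, hp0, smul_eq_mul, map_add, h7,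
    map_sub, map_sub, map_smul, ← algebraMap_smul S r (ι (e - j)), map_smul, hp0, smul_eq_mul, add_mul,
    mul_assoc, Units.inv_mul, mul_one]
  ring

/-- Triviality of the Picard group across a Milnor square. -/
theorem pic_of_sq (h : Sq (S := S) I) (hinj : Function.Injective (algebraMap R S))
    (hS : ∀ (M : Type (max v w)) [AddCommGroup M] [Module S M] [Module.Invertible S M],
      Nonempty (M ≃ₗ[S] S))
    (hI : ∀ (M : Type w) [AddCommGroup M] [Module (R ⧸ I) M] [Module.Invertible (R ⧸ I) M],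
      ∃ e : M, ∀ m : M, ∃ r : R ⧸ I, m = r • e)
    (P : Type w) [AddCommGroup P] [Module R P] [Module.Invertible R P] :
    ∃ p₀ : P, ∀ p : P, ∃ r : R, p = r • p₀ := by
  obtain ⟨φ⟩ := hS (S ⊗[R] P)
  have h1 : Function.Injective (TensorProduct.mk R S P 1) := by
    have h2 := Module.Flat.rTensor_preserves_injective_linearMap (M := P) (Algebra.linearMap R S) hinj
    have h3 : (TensorProduct.mk R S P 1) =
        ((Algebra.linearMap R S).rTensor P) ∘ₗ (TensorProduct.lid R P).symm.toLinearMap := by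
      ext p
      simp
    rw [h3]
    exact h2.comp (TensorProduct.lid R P).symm.injective
  have h4 : Submodule.span S (Set.range (TensorProduct.mk R S P 1)) = ⊤ := by
    rw [eq_top_iff]
    rintro x -
    induction x with
    | zero => exact Submodule.zero_mem _
    | tmul s p =>
      have h5 : s ⊗ₜ[R] p = s • ((1 : S) ⊗ₜ[R] p) := by rw [smul_tmul', smul_eq_mul, mul_one]
      rw [h5]
      exact Submodule.smul_mem _ _ (Submodule.subset_span ⟨p, rfl⟩)
    | add x y hx hy => exact Submodule.add_mem _ hx hy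
  let Q := P ⧸ (I • ⊤ : Submodule R P)
  have hQ : Module.Invertible (R ⧸ I) Q :=
    Module.Invertible.congr (M := (R ⧸ I) ⊗[R] P)
      ((TensorProduct.quotTensorEquivQuotSMul P I).extendScalarsOfSurjective
        (Ideal.Quotient.mk_surjective))
  obtain ⟨e', he'⟩ := hI Q
  obtain ⟨e, rfl⟩ := Submodule.Quotient.mk_surjective _ e'
  refine cyclic_of_sq h (TensorProduct.mk R S P 1) h1 h4 φ e fun p => ?_
  obtain ⟨r', hr'⟩ := he' (Submodule.Quotient.mk p)
  obtain ⟨r, rfl⟩ := Ideal.Quotient.mk_surjective r'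
  refine ⟨r, ?_⟩
  rw [← Submodule.Quotient.mk_eq_zero, Submodule.Quotient.mk_sub, hr', Submodule.Quotient.mk_smul]
  exact sub_self _

end Groth.Agent.Sga7.H591.MilnorPic
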