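import Groth.Agent.Sga7.H591.Dcl
import Groth.Agent.Divis.EffCartier

/-!
# Sections with values in the smooth locus of a relative curve

For `f : X ⟶ S` separated and `x` a `T`-point of `X` with values in an open on which `f` is smooth of relative
dimension one:
* `isEff_sec`: the graph of `x` is an effective Cartier divisor of `X_T`;
* `pcl f x h : Pic X_T` its class, `pull_pcl` its base change.
-/

set_option autoImplicit false
universe u
open CategoryTheory CategoryTheory.Limits AlgebraicGeometry Opposite TopologicalSpace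

namespace Groth.Agent.Sga7.H591.SecSm

open Groth.Agent.Grpsch.PicGrp Groth.Agent.Fga.JacSum Groth.Agent.Sga7.H591.Dcl
open Groth.Agent.Picfga Groth.Agent.Picfga.SecGraph Groth.Agent.Divis.EffCartier

variable {X S : Scheme.{u}} (f : X ⟶ S)

section

variable [IsSeparated f]

theorem support_secGraph {T : Over S} (x : Pt f T) :
    ((HilbD.secGraph f T x.1 x.2).support : Set (PicF.XT f T)) = Set.range (sec f T x.1 x.2) := by
  rw [secGraph_eq_ker, Scheme.Hom.support_ker]
  exact (sec f T x.1 x.2).isClosedEmbedding.isClosed_range.closure_eq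

variable (U : X.Opens)

/-- `U_T ⟶ X_T`. -/
noncomputable def openMap (T : Over S) : PicF.XT (U.ι ≫ f) T ⟶ PicF.XT f T :=
  pullback.lift (pullback.fst _ _ ≫ U.ι) (pullback.snd _ _) (by
    rw [Category.assoc, pullback.condition])

omit [IsSeparated f] in
@[reassoc]
theorem openMap_fst (T : Over S) : openMap f U T ≫ pullback.fst f T.hom = pullback.fst _ _ ≫ U.ι :=
  pullback.lift_fst _ _ _

omit [IsSeparated f] in
@[reassoc]
theorem openMap_snd (T : Over S) : openMap f U T ≫ pullback.snd f T.hom = pullback.snd _ _ :=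
  pullback.lift_snd _ _ _

omit [IsSeparated f] in
theorem isPullback_openMap (T : Over S) :
    IsPullback (pullback.fst (U.ι ≫ f) T.hom) (openMap f U T) U.ι (pullback.fst f T.hom) := by
  refine IsPullback.of_bot (h₃₁ := T.hom) (v₂₁ := pullback.snd f T.hom) (v₂₂ := f) ?_ ?_
    (IsPullback.of_hasPullback f T.hom)
  · rw [openMap_snd]
    exact IsPullback.of_hasPullback (U.ι ≫ f) T.hom
  · exact (openMap_fst f U T).symm

omit [IsSeparated f] in
instance isOpenImmersion_openMap (T : Over S) : IsOpenImmersion (openMap f U T) :=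
  MorphismProperty.of_isPullback (P := @IsOpenImmersion) (isPullback_openMap f U T) inferInstance

variable {f U} in
/-- A point with values in `U`. -/
noncomputable def liftPt {T : Over S} (x : Pt f T) (hx : Set.range x.1 ⊆ U) : Pt (U.ι ≫ f) T :=
  ⟨IsOpenImmersion.lift U.ι x.1 (by rw [Scheme.Opens.range_ι]; exact hx), by
    rw [← Category.assoc, IsOpenImmersion.lift_fac, x.2]⟩

variable {f U} in
omit [IsSeparated f] in
theorem liftPt_ι {T : Over S} (x : Pt f T) (hx : Set.range x.1 ⊆ U) : (liftPt x hx).1 ≫ U.ι = x.1 :=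
  IsOpenImmersion.lift_fac _ _ _

omit [IsSeparated f] in
theorem sec_openMap {T : Over S} (x : Pt f T) (hx : Set.range x.1 ⊆ U) :
    sec (U.ι ≫ f) T (liftPt x hx).1 (liftPt x hx).2 ≫ openMap f U T = sec f T x.1 x.2 := by
  apply pullback.hom_ext
  · rw [Category.assoc, openMap_fst, sec_fst_assoc, sec_fst, liftPt_ι]
  · rw [Category.assoc, openMap_snd, pullback.lift_snd, pullback.lift_snd]

omit [IsSeparated f] in
theorem isPullback_sec_openMap {T : Over S} (x : Pt f T) (hx : Set.range x.1 ⊆ U) :
    IsPullback (𝟙 T.left) (sec (U.ι ≫ f) T (liftPt x hx).1 (liftPt x hx).2) (sec f T x.1 x.2)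
      (openMap f U T) := by
  have h1 : IsPullback (𝟙 T.left) (sec (U.ι ≫ f) T (liftPt x hx).1 (liftPt x hx).2)
      (sec (U.ι ≫ f) T (liftPt x hx).1 (liftPt x hx).2) (𝟙 _) :=
    IsPullback.of_horiz_isIso ⟨by rw [Category.id_comp, Category.comp_id]⟩
  have h := h1.paste_vert (IsKernelPair.id_of_mono (openMap f U T))
  rwa [sec_openMap, Category.comp_id] at h

/-- The graph of a point with values in an open on which `f` is smooth of relative dimension one. -/
theorem isEff_sec [SmoothOfRelativeDimension 1 (U.ι ≫ f)] {T : Over S} (x : Pt f T)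
    (hx : Set.range x.1 ⊆ U) : BlowUp.IsEffCartierIdeal (HilbD.secGraph f T x.1 x.2) := by
  apply isEff_of_forall_comap
  intro p
  by_cases hp : p ∈ Set.range (sec f T x.1 x.2)
  · refine ⟨_, openMap f U T, inferInstance, ?_, ?_⟩
    · obtain ⟨t, rfl⟩ := hp
      exact ⟨sec (U.ι ≫ f) T (liftPt x hx).1 (liftPt x hx).2 t, by
        rw [← Scheme.Hom.comp_apply, sec_openMap]⟩
    · have h := ker_eq_comap_of_isPullback (isPullback_sec_openMap f U x hx)
      rw [secGraph_eq_ker, ← h]
      exact isEff_secGraph (U.ι ≫ f) (liftPt x hx)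
  · let W : (PicF.XT f T).Opens := ⟨(Set.range (sec f T x.1 x.2))ᶜ,
      (sec f T x.1 x.2).isClosedEmbedding.isClosed_range.isOpen_compl⟩
    refine ⟨_, W.ι, inferInstance, ?_, ?_⟩
    · rw [Scheme.Opens.range_ι]
      exact hp
    · rw [comap_eq_top]
      · exact isEff_top
      · intro z hz
        rw [← SetLike.mem_coe, support_secGraph] at hz
        exact z.2 hz

end

end Groth.Agent.Sga7.H591.SecSm
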